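import Mathlib.CategoryTheory.Sites.RegularEpi
import Mathlib.CategoryTheory.Sites.LocallySurjective
import Mathlib.CategoryTheory.Sites.Limits
import Mathlib.CategoryTheory.Limits.Types.Pullbacks
import Mathlib.CategoryTheory.MorphismProperty.Limits
import Mathlib.CategoryTheory.Sites.LocallyInjective

/-!
# Epimorphisms and pullbacks of sheaves of sets

Sectionwise description of pullback squares of sheaves of sets, stability of local surjectivity
(of epimorphisms) under base change, and: every epimorphism is a universal effective epimorphism.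
-/

set_option autoImplicit false

universe w v₁ u₁

open CategoryTheory CategoryTheory.Limits Opposite

namespace K186.Epi

variable {C : Type u₁} [Category.{v₁} C] {J : GrothendieckTopology C}

section Pullback

variable {P X Y Z : Sheaf J (Type w)} {fst : P ⟶ X} {snd : P ⟶ Y} {f : X ⟶ Z} {g : Y ⟶ Z}

lemma isPullback_app (h : IsPullback fst snd f g) (U : Cᵒᵖ) :
    IsPullback (fst.hom.app U) (snd.hom.app U) (f.hom.app U) (g.hom.app U) :=
  (h.map (sheafToPresheaf J (Type w))).app U

lemma ext_of_isPullback (h : IsPullback fst snd f g) {U : Cᵒᵖ} {x y : P.obj.obj U}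
    (h₁ : fst.hom.app U x = fst.hom.app U y) (h₂ : snd.hom.app U x = snd.hom.app U y) : x = y :=
  Types.ext_of_isPullback (isPullback_app h U) h₁ h₂

lemma exists_of_isPullback (h : IsPullback fst snd f g) {U : Cᵒᵖ} (x : X.obj.obj U)
    (y : Y.obj.obj U) (hxy : f.hom.app U x = g.hom.app U y) :
    ∃ p : P.obj.obj U, fst.hom.app U p = x ∧ snd.hom.app U p = y :=
  Types.exists_of_isPullback (isPullback_app h U) x y hxy

variable (fst snd f g) in
/-- Sectionwise criterion for a square of sheaves of sets to be a pullback. -/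
lemma isPullback_iff_sections :
    IsPullback fst snd f g ↔ fst ≫ f = snd ≫ g ∧
      (∀ (U : Cᵒᵖ) (x y : P.obj.obj U), fst.hom.app U x = fst.hom.app U y →
        snd.hom.app U x = snd.hom.app U y → x = y) ∧
      (∀ (U : Cᵒᵖ) (x : X.obj.obj U) (y : Y.obj.obj U), f.hom.app U x = g.hom.app U y →
        ∃ p : P.obj.obj U, fst.hom.app U p = x ∧ snd.hom.app U p = y) := by
  constructor
  · intro h
    exact ⟨h.w, fun U x y h₁ h₂ => ext_of_isPullback h h₁ h₂,
      fun U x y hxy => exists_of_isPullback h x y hxy⟩
  · rintro ⟨w, h₁, h₂⟩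
    apply IsPullback.of_map (sheafToPresheaf J (Type w)) w
    apply IsPullback.of_forall_isPullback_app
    intro U
    rw [Types.isPullback_iff]
    refine ⟨?_, fun x y ⟨hx, hy⟩ => h₁ U x y hx hy, fun x y hxy => h₂ U x y hxy⟩
    exact congr_app (congr_arg (sheafToPresheaf J (Type w)).map w) U

/-- Local surjectivity is stable under base change. -/
lemma isLocallySurjective_of_isPullback (h : IsPullback fst snd f g)
    [Sheaf.IsLocallySurjective f] : Sheaf.IsLocallySurjective snd where
  imageSieve_mem {U} s := by
    refine J.superset_covering ?_ (Presheaf.imageSieve_mem J f.hom (g.hom.app (op U) s))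
    rintro V i ⟨t, ht⟩
    obtain ⟨p, -, hp⟩ := exists_of_isPullback h t (Y.obj.map i.op s)
      (ht.trans (NatTrans.naturality_apply g.hom i.op s).symm)
    exact ⟨p, hp⟩

end Pullback

section

variable [HasSheafify J (Type w)]

/-- Epimorphisms of sheaves of sets are stable under base change. -/
lemma epi_of_isPullback {P X Y Z : Sheaf J (Type w)} {fst : P ⟶ X} {snd : P ⟶ Y} {f : X ⟶ Z}
    {g : Y ⟶ Z} (h : IsPullback fst snd f g) [Epi f] : Epi snd := by
  have : Sheaf.IsLocallySurjective f := (Sheaf.isLocallySurjective_iff_epi f).2 inferInstance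
  have := isLocallySurjective_of_isPullback h
  infer_instance

lemma epi_of_isPullback' {P X Y Z : Sheaf J (Type w)} {fst : P ⟶ X} {snd : P ⟶ Y} {f : X ⟶ Z}
    {g : Y ⟶ Z} (h : IsPullback fst snd f g) [Epi g] : Epi fst :=
  epi_of_isPullback h.flip

instance epi_pullback_snd {X Y Z : Sheaf J (Type w)} (f : X ⟶ Z) (g : Y ⟶ Z) [Epi f] :
    Epi (pullback.snd f g) :=
  epi_of_isPullback (IsPullback.of_hasPullback f g)

instance epi_pullback_fst {X Y Z : Sheaf J (Type w)} (f : X ⟶ Z) (g : Y ⟶ Z) [Epi g] :
    Epi (pullback.fst f g) :=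
  epi_of_isPullback' (IsPullback.of_hasPullback f g)

/-- Every epimorphism of sheaves of sets is an effective epimorphism. -/
lemma effectiveEpi_of_epi {X Y : Sheaf J (Type w)} (f : X ⟶ Y) [Epi f] : EffectiveEpi f := by
  rw [← isRegularEpi_iff_effectiveEpi]
  exact IsRegularEpiCategory.regularEpiOfEpi f

/-- Every epimorphism of sheaves of sets is a universal effective epimorphism. -/
lemma universally_effectiveEpi {X Y : Sheaf J (Type w)} (f : X ⟶ Y) [Epi f] :
    (MorphismProperty.universally
      (fun (A B : Sheaf J (Type w)) (p : A ⟶ B) => EffectiveEpi p)) f := by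
  intro X' Y' i₁ i₂ f' h
  have : Epi f' := epi_of_isPullback' h
  exact effectiveEpi_of_epi f'

end

end K186.Epi
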