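import Mathlib.CategoryTheory.EquivalenceRelation
import Mathlib.CategoryTheory.Functor.RegularEpi
import Mathlib.CategoryTheory.Limits.FunctorCategory.Basic
import Mathlib.CategoryTheory.Limits.Types.Pullbacks

/-!
# Quotients of presheaves of sets by equivalence relations

The presheaf quotient of an equivalence relation of presheaves of sets, computed sectionwise.
-/

set_option autoImplicit false

universe w v₁ u₁

open CategoryTheory CategoryTheory.Limits Opposite

namespace K186.PshQuot

section General

variable {C : Type*} [Category* C] {R X : C} {p₁ p₂ : R ⟶ X}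

lemma mono_prodLift_of_jointlyMono₂ [HasBinaryProduct X X] (h : JointlyMono₂ p₁ p₂) :
    Mono (prod.lift p₁ p₂) where
  right_cancellation {Y} a b hab := by
    apply h.right_cancellation
    · have := congr_arg (· ≫ prod.fst) hab
      simpa only [Category.assoc, prod.lift_fst] using this
    · have := congr_arg (· ≫ prod.snd) hab
      simpa only [Category.assoc, prod.lift_snd] using this

lemma jointlyMono₂_of_mono_prodLift [HasBinaryProduct X X] [Mono (prod.lift p₁ p₂)] :
    JointlyMono₂ p₁ p₂ where
  right_cancellation Y a b h₁ h₂ := by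
    rw [← cancel_mono (prod.lift p₁ p₂)]
    apply prod.hom_ext
    · simpa only [Category.assoc, prod.lift_fst] using h₁
    · simpa only [Category.assoc, prod.lift_snd] using h₂

/-- A coequalizer of a reflexive pair is a pushout. -/
lemma isPushout_of_isColimit_cofork {Q : C} {π : X ⟶ Q} (w : p₁ ≫ π = p₂ ≫ π)
    (hc : IsColimit (Cofork.ofπ π w)) (r : X ⟶ R) (hr₁ : r ≫ p₁ = 𝟙 X) (hr₂ : r ≫ p₂ = 𝟙 X) :
    IsPushout p₁ p₂ π π := by
  refine ⟨⟨w⟩, ⟨PushoutCocone.IsColimit.mk _ (fun s => Cofork.IsColimit.desc hc s.inl ?_) ?_ ?_ ?_⟩⟩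
  · have h : s.inl = s.inr := by
      have := congr_arg (r ≫ ·) s.condition
      simpa [reassoc_of% hr₁, reassoc_of% hr₂] using this
    simpa [h] using s.condition
  · intro s
    exact Cofork.IsColimit.π_desc' hc _ _
  · intro s
    have h : s.inl = s.inr := by
      have := congr_arg (r ≫ ·) s.condition
      simpa [reassoc_of% hr₁, reassoc_of% hr₂] using this
    exact (Cofork.IsColimit.π_desc' hc _ _).trans h
  · intro s m h₁ h₂
    apply Cofork.IsColimit.hom_ext hc
    exact h₁.trans (Cofork.IsColimit.π_desc' hc _ _).symm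

end General

variable {C : Type u₁} [Category.{v₁} C] {R X : Cᵒᵖ ⥤ Type w} (p₁ p₂ : R ⟶ X)

/-- The relation on sections. -/
def rel (U : Cᵒᵖ) (x y : X.obj U) : Prop := ∃ r : R.obj U, p₁.app U r = x ∧ p₂.app U r = y

lemma rel_map {U V : Cᵒᵖ} (f : U ⟶ V) {x y : X.obj U} (h : rel p₁ p₂ U x y) :
    rel p₁ p₂ V (X.map f x) (X.map f y) := by
  obtain ⟨r, rfl, rfl⟩ := h
  exact ⟨R.map f r, NatTrans.naturality_apply p₁ f r, NatTrans.naturality_apply p₂ f r⟩

/-- The presheaf quotient. -/
def quot : Cᵒᵖ ⥤ Type w where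
  obj U := Quot (rel p₁ p₂ U)
  map f := TypeCat.ofHom (Quot.map (X.map f) (fun _ _ h => rel_map p₁ p₂ f h))
  map_id U := by
    ext x
    induction x using Quot.ind
    exact congr_arg (Quot.mk _) (ConcreteCategory.congr_hom (X.map_id U) _)
  map_comp f g := by
    ext x
    induction x using Quot.ind
    exact congr_arg (Quot.mk _) (ConcreteCategory.congr_hom (X.map_comp f g) _)

/-- The quotient map. -/
def proj : X ⟶ quot p₁ p₂ where
  app U := TypeCat.ofHom (Quot.mk _)
  naturality U V f := by
    ext x
    rfl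

lemma proj_app_surjective (U : Cᵒᵖ) : Function.Surjective ((proj p₁ p₂).app U) :=
  Quot.mk_surjective

lemma w : p₁ ≫ proj p₁ p₂ = p₂ ≫ proj p₁ p₂ := by
  ext U r
  exact Quot.sound ⟨r, rfl, rfl⟩

/-- The quotient map is a coequalizer. -/
def isColimit : IsColimit (Cofork.ofπ (proj p₁ p₂) (w p₁ p₂)) :=
  Cofork.IsColimit.mk _
    (fun s =>
      { app := fun U => TypeCat.ofHom (Quot.lift (s.π.app U) (by
          rintro x y ⟨r, rfl, rfl⟩
          exact ConcreteCategory.congr_hom (NatTrans.congr_app s.condition U) r))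
        naturality := fun U V f => by
          ext x
          induction x using Quot.ind
          exact NatTrans.naturality_apply s.π f _ })
    (fun s => by
      ext U x
      rfl)
    (fun s m hm => by
      ext U x
      induction x using Quot.ind
      exact ConcreteCategory.congr_hom (NatTrans.congr_app hm U) _)

variable {p₁ p₂}

lemma injective_of_jointlyMono₂ (h : JointlyMono₂ p₁ p₂) {U : Cᵒᵖ} {r r' : R.obj U}
    (h₁ : p₁.app U r = p₁.app U r') (h₂ : p₂.app U r = p₂.app U r') : r = r' := by
  have := mono_prodLift_of_jointlyMono₂ h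
  have hm : Mono ((prod.lift p₁ p₂).app U) := inferInstance
  rw [mono_iff_injective] at hm
  apply hm
  have hlim : IsPullback ((prod.fst (X := X) (Y := X)).app U) ((prod.snd (X := X) (Y := X)).app U)
      ((terminal.from X).app U) ((terminal.from X).app U) :=
    (IsPullback.of_isLimit_binaryFan_of_isTerminal (prodIsProd X X) terminalIsTerminal
      |>.app U)
  apply Types.ext_of_isPullback hlim
  · have e := NatTrans.congr_app (prod.lift_fst p₁ p₂) U
    exact (ConcreteCategory.congr_hom e r).trans (h₁.trans (ConcreteCategory.congr_hom e r').symm)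
  · have e := NatTrans.congr_app (prod.lift_snd p₁ p₂) U
    exact (ConcreteCategory.congr_hom e r).trans (h₂.trans (ConcreteCategory.congr_hom e r').symm)

lemma equivalence_rel (e : EquivalenceRelation p₁ p₂) (U : Cᵒᵖ) : Equivalence (rel p₁ p₂ U) where
  refl x := ⟨e.r.app U x,
    ConcreteCategory.congr_hom (NatTrans.congr_app e.reflexivity₁ U) x,
    ConcreteCategory.congr_hom (NatTrans.congr_app e.reflexivity₂ U) x⟩
  symm := by
    rintro x y ⟨r, rfl, rfl⟩
    exact ⟨e.s.app U r, ConcreteCategory.congr_hom (NatTrans.congr_app e.symmetry₁ U) r,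
      ConcreteCategory.congr_hom (NatTrans.congr_app e.symmetry₂ U) r⟩
  trans := by
    rintro x y z ⟨r, rfl, hr⟩ ⟨r', hr', rfl⟩
    obtain ⟨q, rfl, rfl⟩ := Types.exists_of_isPullback
      ((IsPullback.of_isLimit e.isLimit).app U) r r' (hr.trans hr'.symm)
    exact ⟨e.t.app U q, ConcreteCategory.congr_hom (NatTrans.congr_app e.transitivity₁ U) q,
      ConcreteCategory.congr_hom (NatTrans.congr_app e.transitivity₂ U) q⟩

lemma isKernelPair (e : EquivalenceRelation p₁ p₂) : IsKernelPair (proj p₁ p₂) p₁ p₂ := by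
  apply IsPullback.of_forall_isPullback_app
  intro U
  rw [Types.isPullback_iff]
  refine ⟨NatTrans.congr_app (w p₁ p₂) U, fun r r' h =>
    injective_of_jointlyMono₂ e.toJointlyMono₂ h.1 h.2, fun x y hxy => ?_⟩
  exact (equivalence_rel e U).quot_mk_eq_iff x y |>.1 hxy

lemma isPushout (e : EquivalenceRelation p₁ p₂) :
    IsPushout p₁ p₂ (proj p₁ p₂) (proj p₁ p₂) :=
  isPushout_of_isColimit_cofork (w p₁ p₂) (isColimit p₁ p₂) e.r e.reflexivity₁ e.reflexivity₂

/-- Every epimorphism of presheaves of sets is a universal effective epimorphism. -/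
lemma universally_effectiveEpi {X Y : Cᵒᵖ ⥤ Type w} (f : X ⟶ Y) [Epi f] :
    (MorphismProperty.universally (fun (A B : Cᵒᵖ ⥤ Type w) (p : A ⟶ B) => EffectiveEpi p)) f := by
  intro X' Y' i₁ i₂ f' h
  have : Epi f' := by
    have : ∀ U, Epi (f'.app U) := fun U => by
      have hf : Epi (f.app U) := inferInstance
      rw [epi_iff_surjective] at hf ⊢
      intro y
      obtain ⟨x, hx⟩ := hf (i₂.app U y)
      obtain ⟨q, hq, -⟩ := Types.exists_of_isPullback (h.app U) y x hx.symm
      exact ⟨q, hq⟩
    exact NatTrans.epi_of_epi_app f'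
  rw [← isRegularEpi_iff_effectiveEpi]
  exact IsRegularEpiCategory.regularEpiOfEpi f'

/-- Equivalence relations of presheaves of sets are universally effective. -/
theorem isUniversallyEffectiveEquivalenceRelation [IsEquivalenceRelation p₁ p₂] :
    IsUniversallyEffectiveEquivalenceRelation p₁ p₂ := by
  obtain ⟨⟨e⟩⟩ := (inferInstance : IsEquivalenceRelation p₁ p₂)
  have : ∀ U, Epi ((proj p₁ p₂).app U) := fun U =>
    (epi_iff_surjective _).2 (proj_app_surjective p₁ p₂ U)
  have : Epi (proj p₁ p₂) := NatTrans.epi_of_epi_app _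
  exact ⟨⟨{ e with
    B := quot p₁ p₂
    π := proj p₁ p₂
    isKernelPair := isKernelPair e
    isPushout := isPushout e
    universally_effectiveEpi_π := universally_effectiveEpi _ }⟩⟩

end K186.PshQuot
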