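import Groth.Agent.ShfCat.K186.Epi
import Groth.Agent.ShfCat.K186.PshQuot

/-!
# Quotients of sheaves of sets by equivalence relations

Every equivalence relation of sheaves of sets is universally effective; consequently the kernel
pair of any coequalizer of an equivalence relation is the relation itself.
-/

set_option autoImplicit false

universe w v₁ u₁

open CategoryTheory CategoryTheory.Limits Opposite

namespace K186.ShQuot

variable {C : Type u₁} [Category.{v₁} C] {J : GrothendieckTopology C}

lemma jointlyMono₂_hom {R X : Sheaf J (Type w)} {p₁ p₂ : R ⟶ X} (h : JointlyMono₂ p₁ p₂) :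
    JointlyMono₂ ((sheafToPresheaf J (Type w)).map p₁) ((sheafToPresheaf J (Type w)).map p₂) where
  right_cancellation Y a b h₁ h₂ := by
    have := PshQuot.mono_prodLift_of_jointlyMono₂ h
    have hm : Mono ((sheafToPresheaf J (Type w)).map (prod.lift p₁ p₂)) := inferInstance
    rw [← cancel_mono ((sheafToPresheaf J (Type w)).map (prod.lift p₁ p₂))]
    apply BinaryFan.IsLimit.hom_ext
      (isLimitMapConeBinaryFanEquiv _ _ _
        (isLimitOfPreserves (sheafToPresheaf J (Type w)) (prodIsProd X X)))
    · have e : (sheafToPresheaf J (Type w)).map (prod.lift p₁ p₂) ≫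
          (sheafToPresheaf J (Type w)).map prod.fst = (sheafToPresheaf J (Type w)).map p₁ := by
        rw [← Functor.map_comp, prod.lift_fst]
      change (a ≫ _) ≫ (sheafToPresheaf J (Type w)).map prod.fst =
        (b ≫ _) ≫ (sheafToPresheaf J (Type w)).map prod.fst
      rw [Category.assoc, Category.assoc, e]
      exact h₁
    · have e : (sheafToPresheaf J (Type w)).map (prod.lift p₁ p₂) ≫
          (sheafToPresheaf J (Type w)).map prod.snd = (sheafToPresheaf J (Type w)).map p₂ := by
        rw [← Functor.map_comp, prod.lift_snd]
      change (a ≫ _) ≫ (sheafToPresheaf J (Type w)).map prod.snd =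
        (b ≫ _) ≫ (sheafToPresheaf J (Type w)).map prod.snd
      rw [Category.assoc, Category.assoc, e]
      exact h₂

/-- The underlying equivalence relation of presheaves. -/
noncomputable def equivalenceRelationHom {R X : Sheaf J (Type w)} {p₁ p₂ : R ⟶ X}
    (e : EquivalenceRelation p₁ p₂) :
    EquivalenceRelation ((sheafToPresheaf J (Type w)).map p₁)
      ((sheafToPresheaf J (Type w)).map p₂) :=
  have := jointlyMono₂_hom e.toJointlyMono₂
  { e.toReflexiveRelation.map (sheafToPresheaf J (Type w)),
    e.toSymmetricRelation.map (sheafToPresheaf J (Type w)),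
    e.toTransitiveRelation.map (sheafToPresheaf J (Type w)) with }

section

variable [HasSheafify J (Type w)]

variable {R X : Sheaf J (Type w)} (p₁ p₂ : R ⟶ X)

/-- The quotient sheaf: the sheafification of the presheaf quotient. -/
noncomputable def quot : Sheaf J (Type w) :=
  (presheafToSheaf J (Type w)).obj (PshQuot.quot ((sheafToPresheaf J (Type w)).map p₁)
    ((sheafToPresheaf J (Type w)).map p₂))

/-- The quotient map. -/
noncomputable def proj : X ⟶ quot p₁ p₂ :=
  inv ((sheafificationAdjunction J (Type w)).counit.app X) ≫
    (presheafToSheaf J (Type w)).map (PshQuot.proj ((sheafToPresheaf J (Type w)).map p₁)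
    ((sheafToPresheaf J (Type w)).map p₂))

lemma epi_proj : Epi (proj p₁ p₂) := by
  have : ∀ U, Epi ((PshQuot.proj ((sheafToPresheaf J (Type w)).map p₁)
    ((sheafToPresheaf J (Type w)).map p₂)).app U) := fun U =>
    (epi_iff_surjective _).2 (PshQuot.proj_app_surjective _ _ U)
  have : Epi (PshQuot.proj ((sheafToPresheaf J (Type w)).map p₁)
    ((sheafToPresheaf J (Type w)).map p₂)) := NatTrans.epi_of_epi_app _
  have : (presheafToSheaf J (Type w)).PreservesEpimorphisms :=
    Functor.preservesEpimorphisms_of_adjunction (sheafificationAdjunction J (Type w))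
  have h : Epi ((presheafToSheaf J (Type w)).map
      (PshQuot.proj ((sheafToPresheaf J (Type w)).map p₁) ((sheafToPresheaf J (Type w)).map p₂))) :=
    Functor.map_epi (presheafToSheaf J (Type w)) _
  exact epi_comp' inferInstance h

variable {p₁ p₂}

lemma isKernelPair (e : EquivalenceRelation p₁ p₂) : IsKernelPair (proj p₁ p₂) p₁ p₂ := by
  have h := (PshQuot.isKernelPair (equivalenceRelationHom e)).map (presheafToSheaf J (Type w))
  refine IsPullback.of_iso h
    (asIso ((sheafificationAdjunction J (Type w)).counit.app R))
    (asIso ((sheafificationAdjunction J (Type w)).counit.app X))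
    (asIso ((sheafificationAdjunction J (Type w)).counit.app X)) (Iso.refl _) ?_ ?_ ?_ ?_
  · exact (sheafificationAdjunction J (Type w)).counit.naturality p₁
  · exact (sheafificationAdjunction J (Type w)).counit.naturality p₂
  · simp [proj, quot]
  · simp [proj, quot]

lemma isPushout (e : EquivalenceRelation p₁ p₂) :
    IsPushout p₁ p₂ (proj p₁ p₂) (proj p₁ p₂) := by
  have h := (PshQuot.isPushout (equivalenceRelationHom e)).map (presheafToSheaf J (Type w))
  refine IsPushout.of_iso h
    (asIso ((sheafificationAdjunction J (Type w)).counit.app R))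
    (asIso ((sheafificationAdjunction J (Type w)).counit.app X))
    (asIso ((sheafificationAdjunction J (Type w)).counit.app X)) (Iso.refl _) ?_ ?_ ?_ ?_
  · exact (sheafificationAdjunction J (Type w)).counit.naturality p₁
  · exact (sheafificationAdjunction J (Type w)).counit.naturality p₂
  · simp [proj, quot]
  · simp [proj, quot]

/-- Equivalence relations of sheaves of sets are universally effective. -/
noncomputable def universallyEffective (e : EquivalenceRelation p₁ p₂) :
    UniversallyEffectiveEquivalenceRelation p₁ p₂ where
  toEquivalenceRelation := e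
  B := quot p₁ p₂
  π := proj p₁ p₂
  isKernelPair := isKernelPair e
  isPushout := isPushout e
  universally_effectiveEpi_π :=
    have := epi_proj p₁ p₂
    Epi.universally_effectiveEpi _

/-- The kernel pair of a coequalizer of an equivalence relation of sheaves of sets is that
relation. -/
theorem isKernelPair_of_isColimit (e : EquivalenceRelation p₁ p₂) {Q : Sheaf J (Type w)}
    {π : X ⟶ Q} (w : p₁ ≫ π = p₂ ≫ π) (hc : IsColimit (Cofork.ofπ π w)) :
    IsKernelPair π p₁ p₂ := by
  have h := isKernelPair e
  let i : quot p₁ p₂ ≅ Q := IsColimit.coconePointUniqueUpToIso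
    (universallyEffective e).isCoequalizer hc
  have hi : proj p₁ p₂ ≫ i.hom = π :=
    IsColimit.comp_coconePointUniqueUpToIso_hom (universallyEffective e).isCoequalizer hc
      WalkingParallelPair.one
  exact IsPullback.of_iso h (Iso.refl _) (Iso.refl _) (Iso.refl _) i (by simp) (by simp)
    (by simp [hi]) (by simp [hi])

/-- The kernel pair of the coequalizer of an equivalence relation of sheaves of sets is that
relation. -/
theorem isKernelPair_coequalizer (e : EquivalenceRelation p₁ p₂) :
    IsKernelPair (coequalizer.π p₁ p₂) p₁ p₂ :=
  isKernelPair_of_isColimit e (coequalizer.condition p₁ p₂) (coequalizerIsCoequalizer p₁ p₂)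

end

end K186.ShQuot
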