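import Mathlib.CategoryTheory.EquivalenceRelation
import Mathlib.CategoryTheory.Monoidal.Cartesian.Grp
import Mathlib.CategoryTheory.Subobject.Basic
import Mathlib.CategoryTheory.Limits.Shapes.KernelPair

/-!
# Quotients in exact categories by generalized elements

`ExactCat E` collects the exactness properties of a category of sheaves of sets which are used to
compute with quotients by generalized elements: epimorphisms are effective and stable under base
change, and an equivalence relation is the kernel pair of its coequalizer.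
-/

set_option autoImplicit false

open CategoryTheory CategoryTheory.Limits MonoidalCategory CartesianMonoidalCategory MonObj

namespace K186.Exact

/-- Exactness properties of a category (of sheaves of sets). -/
class ExactCat (E : Type*) [Category* E] : Prop where
  epi_stable : ∀ {P X Y Z : E} {fst : P ⟶ X} {snd : P ⟶ Y} {f : X ⟶ Z} {g : Y ⟶ Z},
    IsPullback fst snd f g → Epi f → Epi snd
  effective : ∀ {X Y : E} (f : X ⟶ Y), Epi f → EffectiveEpi f
  kernelPair : ∀ {R X Q : E} {p₁ p₂ : R ⟶ X} {π : X ⟶ Q} (w : p₁ ≫ π = p₂ ≫ π),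
    EquivalenceRelation p₁ p₂ → IsColimit (Cofork.ofπ π w) → IsKernelPair π p₁ p₂

variable {E : Type*} [Category* E] [ExactCat E]

/-- Generalized elements lift locally along epimorphisms. -/
lemma exists_lift [HasPullbacks E] {X Q T : E} (π : X ⟶ Q) [Epi π] (f : T ⟶ Q) :
    ∃ (T' : E) (e : T' ⟶ T) (f' : T' ⟶ X), Epi e ∧ f' ≫ π = e ≫ f :=
  ⟨pullback π f, pullback.snd π f, pullback.fst π f,
    ExactCat.epi_stable (IsPullback.of_hasPullback π f) inferInstance, pullback.condition⟩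

/-- Factorization through a monomorphism is local. -/
lemma exists_factor_of_epi {T' T Z X : E} (e : T' ⟶ T) [Epi e] (i : Z ⟶ X) [Mono i] (t : T ⟶ X)
    (t' : T' ⟶ Z) (h : e ≫ t = t' ≫ i) : ∃ s : T ⟶ Z, s ≫ i = t := by
  have := ExactCat.effective e inferInstance
  have sq : CommSq t' e i t := ⟨h.symm⟩
  exact ⟨sq.lift, sq.fac_right⟩

/-- Descent of morphisms along epimorphisms. -/
lemma exists_desc {X Q Z : E} (π : X ⟶ Q) [Epi π] (φ : X ⟶ Z)
    (h : ∀ (T : E) (a b : T ⟶ X), a ≫ π = b ≫ π → a ≫ φ = b ≫ φ) : ∃ ψ : Q ⟶ Z, π ≫ ψ = φ := by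
  have := ExactCat.effective π inferInstance
  exact ⟨EffectiveEpi.desc π φ fun a b hab => h _ a b hab, EffectiveEpi.fac π φ _⟩

/-- Monomorphism criterion for a map out of a quotient. -/
lemma mono_of_quotient [HasPullbacks E] {X Q Z : E} (π : X ⟶ Q) [Epi π] (g : Q ⟶ Z)
    (h : ∀ (T : E) (a b : T ⟶ X), a ≫ π ≫ g = b ≫ π ≫ g → a ≫ π = b ≫ π) : Mono g where
  right_cancellation {T} x y hxy := by
    obtain ⟨T₁, e₁, x', he₁, hx'⟩ := exists_lift π x
    obtain ⟨T₂, e₂, y', he₂, hy'⟩ := exists_lift π (e₁ ≫ y)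
    have hh : (e₂ ≫ x') ≫ π = y' ≫ π := by
      apply h
      rw [Category.assoc, reassoc_of% hx', reassoc_of% hy', hxy]
    rw [Category.assoc, hx', hy'] at hh
    rw [← cancel_epi e₁, ← cancel_epi e₂, hh]

/-- Epimorphism criterion by generalized elements. -/
lemma epi_of_exists_lift {X Q : E} (π : X ⟶ Q)
    (h : ∀ (T : E) (f : T ⟶ Q), ∃ (T' : E) (e : T' ⟶ T) (f' : T' ⟶ X), Epi e ∧ f' ≫ π = e ≫ f) :
    Epi π := by
  obtain ⟨T', e, f', he, hf⟩ := h Q (𝟙 Q)
  rw [Category.comp_id] at hf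
  have : Epi (f' ≫ π) := by rw [hf]; exact he
  exact epi_of_epi f' π

variable [CartesianMonoidalCategory E]

instance epi_tensorHom [HasPullbacks E] {X X' Y Y' : E} (f : X ⟶ X') (g : Y ⟶ Y') [Epi f]
    [Epi g] : Epi (f ⊗ₘ g) := by
  apply epi_of_exists_lift
  intro T t
  obtain ⟨T₁, e₁, x, he₁, hx⟩ := exists_lift f (t ≫ fst _ _)
  obtain ⟨T₂, e₂, y, he₂, hy⟩ := exists_lift g (e₁ ≫ t ≫ snd _ _)
  refine ⟨T₂, e₂ ≫ e₁, lift (e₂ ≫ x) y, epi_comp _ _, ?_⟩
  apply CartesianMonoidalCategory.hom_ext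
  · simp [hx]
  · simp [hy]

instance epi_whiskerLeft [HasPullbacks E] (X : E) {Y Y' : E} (g : Y ⟶ Y') [Epi g] :
    Epi (X ◁ g) := by
  rw [← id_tensorHom]
  infer_instance

instance epi_whiskerRight [HasPullbacks E] {X X' : E} (f : X ⟶ X') (Y : E) [Epi f] :
    Epi (f ▷ Y) := by
  rw [← tensorHom_id]
  infer_instance

end K186.Exact
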