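import Groth.Agent.ShfCat.K186.ShQuot
import Groth.Agent.ShfCat.K186.Exact
import Mathlib.CategoryTheory.Sites.CartesianMonoidal

/-!
# Categories of sheaves of sets are exact
-/

set_option autoImplicit false

universe w v₁ u₁

open CategoryTheory CategoryTheory.Limits

namespace K186.ExactSheaf

instance {C : Type u₁} [Category.{v₁} C] (J : GrothendieckTopology C) [HasSheafify J (Type w)] :
    K186.Exact.ExactCat (Sheaf J (Type w)) where
  epi_stable h hf := by
    have := hf
    exact Epi.epi_of_isPullback h
  effective f hf := Epi.effectiveEpi_of_epi f
  kernelPair w e hc := ShQuot.isKernelPair_of_isColimit e w hc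

end K186.ExactSheaf
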