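import Groth.Agent.ShfCat.K186.Exact
import Mathlib.CategoryTheory.Subobject.FactorThru
import Mathlib.CategoryTheory.Limits.Shapes.Equalizers

/-!
# Subobjects and quotients in exact categories

Inverse image along an epimorphism is injective on subobjects, and its range consists of the
subobjects which are stable under the kernel pair.
-/

set_option autoImplicit false
set_option linter.unusedSectionVars false

open CategoryTheory CategoryTheory.Limits

namespace K186.SubObj

open K186.Exact

section General

variable {E : Type*} [Category* E]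

lemma le_iff_factors {X : E} (S S' : Subobject X) :
    S ≤ S' ↔ ∀ (T : E) (f : T ⟶ X), S.Factors f → S'.Factors f :=
  ⟨fun h _ f => Subobject.factors_of_le f h, fun h =>
    Subobject.le_of_factors (h _ _ (Subobject.factors_self S))⟩

lemma ext_factors {X : E} {S S' : Subobject X}
    (h : ∀ (T : E) (f : T ⟶ X), S.Factors f ↔ S'.Factors f) : S = S' :=
  le_antisymm ((le_iff_factors _ _).2 fun T f hf => (h T f).1 hf)
    ((le_iff_factors _ _).2 fun T f hf => (h T f).2 hf)

lemma factors_iff_exists {X T : E} (S : Subobject X) (f : T ⟶ X) :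
    S.Factors f ↔ ∃ g : T ⟶ (S : E), g ≫ S.arrow = f :=
  ⟨fun h => ⟨S.factorThru f h, S.factorThru_arrow f h⟩, by
    rintro ⟨g, rfl⟩
    exact Subobject.factors_comp_arrow g⟩

lemma mk_factors_iff' {X Y T : E} (i : Y ⟶ X) [Mono i] (f : T ⟶ X) :
    (Subobject.mk i).Factors f ↔ ∃ g : T ⟶ Y, g ≫ i = f :=
  Subobject.mk_factors_iff i f

variable [HasPullbacks E]

lemma pullback_factors_iff {X Y T : E} (f : X ⟶ Y) (S : Subobject Y) (t : T ⟶ X) :
    ((Subobject.pullback f).obj S).Factors t ↔ S.Factors (t ≫ f) := by
  rw [factors_iff_exists, factors_iff_exists]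
  have h := Subobject.isPullback f S
  constructor
  · rintro ⟨g, rfl⟩
    exact ⟨g ≫ Subobject.pullbackπ f S, by rw [Category.assoc, Category.assoc, h.w]⟩
  · rintro ⟨g, hg⟩
    exact ⟨h.lift g t hg, h.lift_snd _ _ _⟩

variable [ExactCat E]

lemma factors_of_epi {T' T X : E} (e : T' ⟶ T) [Epi e] (S : Subobject X) (t : T ⟶ X)
    (h : S.Factors (e ≫ t)) : S.Factors t := by
  rw [factors_iff_exists] at h ⊢
  obtain ⟨g, hg⟩ := h
  exact exists_factor_of_epi e S.arrow t g hg.symm

/-- Inverse image of subobjects along an epimorphism is injective. -/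
lemma pullback_injective {X Q : E} (π : X ⟶ Q) [Epi π] :
    Function.Injective (Subobject.pullback π).obj := by
  have key : ∀ S S' : Subobject Q, (Subobject.pullback π).obj S = (Subobject.pullback π).obj S' →
      S ≤ S' := by
    intro S S' h
    rw [le_iff_factors]
    intro T f hf
    obtain ⟨T', e, f', he, hf'⟩ := exists_lift π f
    apply factors_of_epi e
    rw [← hf', ← pullback_factors_iff, ← h, pullback_factors_iff, hf']
    exact Subobject.factors_of_factors_right _ hf
  intro S S' h
  exact le_antisymm (key _ _ h) (key _ _ h.symm)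

variable [HasCoequalizers E]

/-- Epi-mono factorization. -/
lemma exists_image {X B : E} (f : X ⟶ B) :
    ∃ (I : E) (p : X ⟶ I) (i : I ⟶ B), Epi p ∧ Mono i ∧ p ≫ i = f := by
  let p := coequalizer.π (pullback.fst f f) (pullback.snd f f)
  let i := coequalizer.desc (f := pullback.fst f f) (g := pullback.snd f f) f pullback.condition
  have hpi : p ≫ i = f := coequalizer.π_desc _ _
  refine ⟨_, p, i, inferInstance, ?_, hpi⟩
  apply mono_of_quotient p i
  intro T a b hab
  rw [hpi] at hab
  have h := pullback.lift a b hab ≫= coequalizer.condition (pullback.fst f f) (pullback.snd f f)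
  rw [pullback.lift_fst_assoc, pullback.lift_snd_assoc] at h
  exact h

/-- A subobject stable under the kernel pair of an epimorphism is an inverse image. -/
lemma exists_pullback_eq {R X Q : E} {π : X ⟶ Q} {p₁ p₂ : R ⟶ X} (h : IsKernelPair π p₁ p₂)
    (S : Subobject X) (hS : (Subobject.pullback p₁).obj S = (Subobject.pullback p₂).obj S) :
    ∃ S' : Subobject Q, (Subobject.pullback π).obj S' = S := by
  obtain ⟨I, p, i, hp, hi, hpi⟩ := exists_image (S.arrow ≫ π)
  refine ⟨Subobject.mk i, ext_factors fun T f => ?_⟩
  rw [pullback_factors_iff, mk_factors_iff']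
  constructor
  · rintro ⟨g, hg⟩
    obtain ⟨T', e, s, he, hs⟩ := exists_lift p g
    have h₁ : (s ≫ S.arrow) ≫ π = (e ≫ f) ≫ π := by
      rw [Category.assoc, ← hpi, reassoc_of% hs, hg, Category.assoc]
    have h₂ : ((Subobject.pullback p₁).obj S).Factors (h.lift (s ≫ S.arrow) (e ≫ f) h₁) := by
      rw [pullback_factors_iff, h.lift_fst]
      exact Subobject.factors_comp_arrow s
    rw [hS, pullback_factors_iff, h.lift_snd] at h₂
    exact factors_of_epi e S f h₂
  · intro hf
    obtain ⟨g, rfl⟩ := (factors_iff_exists _ _).1 hf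
    exact ⟨g ≫ p, by rw [Category.assoc, hpi, Category.assoc]⟩

/-- The range of the inverse image of subobjects along an epimorphism. -/
lemma range_pullback {R X Q : E} {π : X ⟶ Q} {p₁ p₂ : R ⟶ X} (h : IsKernelPair π p₁ p₂) :
    Set.range (Subobject.pullback π).obj =
      {S : Subobject X | (Subobject.pullback p₁).obj S = (Subobject.pullback p₂).obj S} := by
  ext S
  constructor
  · rintro ⟨S', rfl⟩
    refine ext_factors fun T f => ?_
    simp only [pullback_factors_iff, Category.assoc, h.w]
  · intro hS
    exact exists_pullback_eq h S hS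

end General

end K186.SubObj
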