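import Groth.Agent.ShfCat.K186.Coset
import Mathlib.Tactic.Group

/-!
# Quotient groups in exact categories

For a normal monomorphism of group objects `u : H ⟶ G` the quotient `G/H` carries exactly one
structure of group object for which `π : G ⟶ G/H` is a homomorphism; for an arbitrary monomorphism
of group objects, `G` acts on `G/H` in exactly one way compatible with left translations.
-/

set_option autoImplicit false
set_option linter.unusedSectionVars false

open CategoryTheory CategoryTheory.Limits MonoidalCategory CartesianMonoidalCategory MonObj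

namespace K186.GrpQuot

open K186.Exact K186.Coset

variable {E : Type*} [Category* E] [CartesianMonoidalCategory E]

lemma comp_mul' {G T : E} [MonObj G] (a : T ⟶ G ⊗ G) :
    a ≫ μ[G] = (a ≫ fst G G) * (a ≫ snd G G) := by
  rw [MonObj.mul_eq_mul, MonObj.comp_mul]

lemma epi_π {X Y Q : E} {f g : X ⟶ Y} {π : Y ⟶ Q} {w : f ≫ π = g ≫ π}
    (hc : IsColimit (Cofork.ofπ π w)) : Epi π :=
  ⟨fun _ _ h => Cofork.IsColimit.hom_ext hc h⟩

variable [HasPullbacks E] [ExactCat E]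

variable {H G : E} [GrpObj H] [GrpObj G] (u : H ⟶ G) [Mono u] [IsMonHom u]
  {Q : E} {π : G ⟶ Q} (w : fst G H ≫ π = ((G ◁ u) ≫ μ[G]) ≫ π)
  (hc : IsColimit (Cofork.ofπ π w))

include w hc

section Normal

variable (hn : ∀ (Y : E) (g : Y ⟶ G) (h : Y ⟶ H), ∃ h' : Y ⟶ H, g * (h ≫ u) * g⁻¹ = h' ≫ u)

include hn

lemma exists_mul : ∃ m : Q ⊗ Q ⟶ Q, (π ⊗ₘ π) ≫ m = μ[G] ≫ π := by
  have := epi_π hc
  apply exists_desc
  intro T a b hab
  have h₁ : (a ≫ fst G G) ≫ π = (b ≫ fst G G) ≫ π := by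
    simpa using hab =≫ fst Q Q
  have h₂ : (a ≫ snd G G) ≫ π = (b ≫ snd G G) ≫ π := by
    simpa using hab =≫ snd Q Q
  obtain ⟨h, hh⟩ := (comp_π_eq_iff u w hc _ _).1 h₁
  obtain ⟨k, hk⟩ := (comp_π_eq_iff u w hc _ _).1 h₂
  obtain ⟨h', hh'⟩ := hn T (a ≫ snd G G)⁻¹ h
  rw [← Category.assoc, ← Category.assoc, comp_π_eq_iff u w hc]
  refine ⟨h' * k, ?_⟩
  rw [comp_mul', comp_mul', hh, hk, MonObj.mul_comp, ← hh']
  group

lemma exists_inv : ∃ m : Q ⟶ Q, π ≫ m = GrpObj.inv ≫ π := by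
  have := epi_π hc
  apply exists_desc
  intro T a b hab
  obtain ⟨h, rfl⟩ := (comp_π_eq_iff u w hc _ _).1 hab
  obtain ⟨h', hh'⟩ := hn T a h⁻¹
  rw [← Category.assoc, ← Category.assoc, comp_π_eq_iff u w hc]
  refine ⟨h', ?_⟩
  rw [← Hom.inv_def, ← Hom.inv_def, ← hh', GrpObj.inv_comp]
  group

/-- The group structure on the quotient by a normal subgroup. -/
lemma exists_grpObj : ∃ str : GrpObj Q, @IsMonHom E _ _ G Q _ str.toMonObj π := by
  have := epi_π hc
  obtain ⟨m, hm⟩ := exists_mul u w hc hn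
  obtain ⟨i, hi⟩ := exists_inv u w hc hn
  let M : MonObj Q :=
    { one := η[G] ≫ π
      mul := m
      one_mul := by
        rw [← cancel_epi (𝟙_ E ◁ π)]
        have e : 𝟙_ E ◁ π ≫ (η[G] ≫ π) ▷ Q = η[G] ▷ G ≫ (π ⊗ₘ π) := by
          rw [comp_whiskerRight, whisker_exchange_assoc, tensorHom_def']
        rw [reassoc_of% e, hm, MonObj.one_mul_assoc]
        simp
      mul_one := by
        rw [← cancel_epi (π ▷ 𝟙_ E)]
        have e : π ▷ 𝟙_ E ≫ Q ◁ (η[G] ≫ π) = G ◁ η[G] ≫ (π ⊗ₘ π) := by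
          rw [MonoidalCategory.whiskerLeft_comp, ← whisker_exchange_assoc, tensorHom_def]
        rw [reassoc_of% e, hm, MonObj.mul_one_assoc]
        simp
      mul_assoc := by
        rw [← cancel_epi ((π ⊗ₘ π) ⊗ₘ π)]
        have e₁ : ((π ⊗ₘ π) ⊗ₘ π) ≫ m ▷ Q = (μ[G] ▷ G) ≫ (π ⊗ₘ π) := by
          rw [← tensorHom_id, ← tensorHom_id, tensorHom_comp_tensorHom, tensorHom_comp_tensorHom,
            hm, Category.comp_id, Category.id_comp]
        have e₂ : ((π ⊗ₘ π) ⊗ₘ π) ≫ (α_ Q Q Q).hom ≫ Q ◁ m =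
            (α_ G G G).hom ≫ (G ◁ μ[G]) ≫ (π ⊗ₘ π) := by
          rw [associator_naturality_assoc, ← id_tensorHom, ← id_tensorHom,
            tensorHom_comp_tensorHom, tensorHom_comp_tensorHom, hm, Category.comp_id,
            Category.id_comp]
        rw [reassoc_of% e₁, hm, MonObj.mul_assoc_assoc]
        have e₃ := e₂ =≫ m
        simp only [Category.assoc] at e₃
        rw [e₃, hm] }
  refine ⟨{ toMonObj := M
            inv := i
            left_inv := ?_
            right_inv := ?_ }, ?_⟩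
  · rw [← cancel_epi π]
    have e : π ≫ lift i (𝟙 Q) = lift GrpObj.inv (𝟙 G) ≫ (π ⊗ₘ π) := by
      apply CartesianMonoidalCategory.hom_ext <;> simp [hi]
    change π ≫ lift i (𝟙 Q) ≫ m = π ≫ toUnit Q ≫ η[G] ≫ π
    rw [reassoc_of% e, hm, GrpObj.left_inv_assoc]
    simp
  · rw [← cancel_epi π]
    have e : π ≫ lift (𝟙 Q) i = lift (𝟙 G) GrpObj.inv ≫ (π ⊗ₘ π) := by
      apply CartesianMonoidalCategory.hom_ext <;> simp [hi]
    change π ≫ lift (𝟙 Q) i ≫ m = π ≫ toUnit Q ≫ η[G] ≫ π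
    rw [reassoc_of% e, hm, GrpObj.right_inv_assoc]
    simp
  · exact { one_hom := rfl
            mul_hom := hm.symm }

/-- Existence and uniqueness of the group structure on the quotient by a normal subgroup. -/
theorem existsUnique_grpObj : ∃! str : GrpObj Q, @IsMonHom E _ _ G Q _ str.toMonObj π := by
  have := epi_π hc
  obtain ⟨str, hstr⟩ := exists_grpObj u w hc hn
  refine ⟨str, hstr, fun str' hstr' => ?_⟩
  apply GrpObj.toMonObj_injective
  refine MonObj.ext _ _ ?_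
  rw [← cancel_epi (π ⊗ₘ π)]
  exact hstr'.mul_hom.symm.trans hstr.mul_hom

end Normal

/-- Existence and uniqueness of the action of `G` on `G/H`. -/
theorem existsUnique_action : ∃! act : G ⊗ Q ⟶ Q,
    (η[G] ▷ Q) ≫ act = (λ_ Q).hom ∧
      (μ[G] ▷ Q) ≫ act = (α_ G G Q).hom ≫ (G ◁ act) ≫ act ∧
      μ[G] ≫ π = (G ◁ π) ≫ act := by
  have := epi_π hc
  obtain ⟨act, hact⟩ : ∃ act : G ⊗ Q ⟶ Q, (G ◁ π) ≫ act = μ[G] ≫ π := by
    apply exists_desc
    intro T a b hab
    have h₁ : a ≫ fst G G = b ≫ fst G G := by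
      simpa using hab =≫ fst G Q
    have h₂ : (a ≫ snd G G) ≫ π = (b ≫ snd G G) ≫ π := by
      simpa using hab =≫ snd G Q
    obtain ⟨k, hk⟩ := (comp_π_eq_iff u w hc _ _).1 h₂
    rw [← Category.assoc, ← Category.assoc, comp_π_eq_iff u w hc]
    refine ⟨k, ?_⟩
    rw [comp_mul', comp_mul', hk, h₁]
    group
  refine ⟨act, ⟨?_, ?_, hact.symm⟩, ?_⟩
  · rw [← cancel_epi (𝟙_ E ◁ π), whisker_exchange_assoc, hact, MonObj.one_mul_assoc]
    simp
  · rw [← cancel_epi ((G ⊗ G) ◁ π), whisker_exchange_assoc, hact, MonObj.mul_assoc_assoc]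
    have e : (G ⊗ G) ◁ π ≫ (α_ G G Q).hom ≫ G ◁ act = (α_ G G G).hom ≫ (G ◁ (μ[G] ≫ π)) := by
      rw [← hact]
      simp
    have e' := e =≫ act
    simp only [Category.assoc] at e'
    rw [e', MonoidalCategory.whiskerLeft_comp, Category.assoc, hact]
  · rintro act' ⟨-, -, h'⟩
    rw [← cancel_epi (G ◁ π), hact, h']

end K186.GrpQuot
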