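import Mathlib.CategoryTheory.Limits.Shapes.Pullback.IsPullback.Basic

/-!
# Criterion for pullback squares by generalized elements
-/

set_option autoImplicit false

open CategoryTheory CategoryTheory.Limits

namespace K186.PbCrit

variable {E : Type*} [Category* E]

/-- A commutative square which satisfies existence and uniqueness of generalized elements is a
pullback square. -/
lemma isPullback_of_exists {P X Y Z : E} {fst : P ⟶ X} {snd : P ⟶ Y} {f : X ⟶ Z} {g : Y ⟶ Z}
    (w : fst ≫ f = snd ≫ g)
    (hm : ∀ (T : E) (a b : T ⟶ P), a ≫ fst = b ≫ fst → a ≫ snd = b ≫ snd → a = b)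
    (he : ∀ (T : E) (x : T ⟶ X) (y : T ⟶ Y), x ≫ f = y ≫ g →
      ∃ p : T ⟶ P, p ≫ fst = x ∧ p ≫ snd = y) : IsPullback fst snd f g :=
  ⟨⟨w⟩, ⟨PullbackCone.IsLimit.mk _ (fun s => (he _ s.fst s.snd s.condition).choose)
    (fun s => (he _ s.fst s.snd s.condition).choose_spec.1)
    (fun s => (he _ s.fst s.snd s.condition).choose_spec.2)
    (fun s m h₁ h₂ => hm _ _ _
      (h₁.trans (he _ s.fst s.snd s.condition).choose_spec.1.symm)
      (h₂.trans (he _ s.fst s.snd s.condition).choose_spec.2.symm))⟩⟩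

end K186.PbCrit
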