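import Groth.Agent.ShfCat.K186.GrpQuot
import Groth.Agent.ShfCat.K186.SubObj

/-!
# Subgroup objects and quotients in exact categories

Subgroup objects of `G` in terms of generalized elements, and the correspondence between subgroup
objects of `G/H` and subgroup objects of `G` containing `H`.
-/

set_option autoImplicit false
set_option linter.unusedSectionVars false

open CategoryTheory CategoryTheory.Limits MonoidalCategory CartesianMonoidalCategory MonObj

namespace K186.SubGrp

open K186.Exact K186.Coset K186.GrpQuot K186.SubObj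

variable {E : Type*} [Category* E] [CartesianMonoidalCategory E]

/-- The generalized elements of the subobject `S` form subgroups. -/
structure IsSubgrp {G : E} [GrpObj G] (S : Subobject G) : Prop where
  one : S.Factors η[G]
  mul : ∀ (T : E) (a b : T ⟶ G), S.Factors a → S.Factors b → S.Factors (a * b)
  inv : ∀ (T : E) (a : T ⟶ G), S.Factors a → S.Factors a⁻¹

lemma comp_η_eq_one {G T : E} [MonObj G] (a : T ⟶ 𝟙_ E) : a ≫ η[G] = 1 := by
  rw [Hom.one_def, toUnit_unique a (toUnit T)]

lemma IsSubgrp.one' {G : E} [GrpObj G] {S : Subobject G} (h : IsSubgrp S) (T : E) :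
    S.Factors (1 : T ⟶ G) := by
  rw [Hom.one_def]
  exact Subobject.factors_of_factors_right _ h.one

/-- A subobject whose generalized elements form subgroups is a group object. -/
lemma exists_grpObj_of_mono {Z G : E} [GrpObj G] (j : Z ⟶ G) [Mono j]
    (e : 𝟙_ E ⟶ Z) (he : e ≫ j = η[G]) (m : Z ⊗ Z ⟶ Z)
    (hm : m ≫ j = (fst Z Z ≫ j) * (snd Z Z ≫ j)) (i : Z ⟶ Z) (hi : i ≫ j = j⁻¹) :
    ∃ str : GrpObj Z, @IsMonHom E _ _ _ _ str.toMonObj _ j := by
  have hm' : m ≫ j = (j ⊗ₘ j) ≫ μ[G] := by
    rw [hm, comp_mul']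
    simp
  have hmT : ∀ (T : E) (a : T ⟶ Z ⊗ Z), a ≫ m ≫ j = ((a ≫ fst Z Z) ≫ j) * ((a ≫ snd Z Z) ≫ j) := by
    intro T a
    rw [hm, MonObj.comp_mul, Category.assoc, Category.assoc]
  let M : MonObj Z :=
    { one := e
      mul := m
      one_mul := by
        rw [← cancel_mono j, Category.assoc, hmT, whiskerRight_fst, whiskerRight_snd,
          Category.assoc, he, comp_η_eq_one, _root_.one_mul, leftUnitor_hom]
      mul_one := by
        rw [← cancel_mono j, Category.assoc, hmT, whiskerLeft_fst, whiskerLeft_snd,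
          Category.assoc (snd Z (𝟙_ E)), he, comp_η_eq_one, _root_.mul_one, rightUnitor_hom]
      mul_assoc := by
        have hmT' : ∀ (T : E) (a : T ⟶ Z ⊗ Z),
            a ≫ m ≫ j = (a ≫ fst Z Z ≫ j) * (a ≫ snd Z Z ≫ j) := fun T a => by
          rw [hm, MonObj.comp_mul]
        rw [← cancel_mono j]
        simp only [Category.assoc, hmT', whiskerRight_fst_assoc, whiskerRight_snd_assoc,
          whiskerLeft_fst_assoc, whiskerLeft_snd_assoc, _root_.mul_assoc, MonObj.comp_mul,
          associator_hom_fst_assoc, associator_hom_snd_fst_assoc, associator_hom_snd_snd_assoc] }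
  refine ⟨{ toMonObj := M
            inv := i
            left_inv := ?_
            right_inv := ?_ }, ?_⟩
  · change lift i (𝟙 Z) ≫ m = toUnit Z ≫ e
    rw [← cancel_mono j, Category.assoc, hmT, lift_fst, lift_snd, hi, Category.id_comp,
      inv_mul_cancel, Category.assoc, he, comp_η_eq_one]
  · change lift (𝟙 Z) i ≫ m = toUnit Z ≫ e
    rw [← cancel_mono j, Category.assoc, hmT, lift_fst, lift_snd, hi, Category.id_comp,
      mul_inv_cancel, Category.assoc, he, comp_η_eq_one]
  · exact { one_hom := he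
            mul_hom := hm' }

/-- A subobject carries a group structure for which the inclusion is a homomorphism if and only
if its generalized elements form subgroups. -/
lemma exists_grpObj_iff {G : E} [GrpObj G] (S : Subobject G) :
    (∃ str : GrpObj (S : E), @IsMonHom E _ _ _ _ str.toMonObj _ S.arrow) ↔ IsSubgrp S := by
  constructor
  · rintro ⟨str, hstr⟩
    refine ⟨?_, ?_, ?_⟩
    · rw [factors_iff_exists]
      exact ⟨η[(S : E)], IsMonHom.one_hom _⟩
    · intro T a b ha hb
      rw [factors_iff_exists] at ha hb ⊢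
      obtain ⟨a', rfl⟩ := ha
      obtain ⟨b', rfl⟩ := hb
      exact ⟨a' * b', MonObj.mul_comp _ _ _⟩
    · intro T a ha
      rw [factors_iff_exists] at ha ⊢
      obtain ⟨a', rfl⟩ := ha
      exact ⟨a'⁻¹, GrpObj.inv_comp _ _⟩
  · intro h
    obtain ⟨e, he⟩ := (factors_iff_exists _ _).1 h.one
    obtain ⟨m, hm⟩ := (factors_iff_exists _ _).1 (h.mul _ (fst (S : E) (S : E) ≫ S.arrow)
      (snd (S : E) (S : E) ≫ S.arrow) (Subobject.factors_comp_arrow _)
      (Subobject.factors_comp_arrow _))
    obtain ⟨i, hi⟩ := (factors_iff_exists _ _).1 (h.inv _ S.arrow (Subobject.factors_self S))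
    exact exists_grpObj_of_mono S.arrow e he m hm i hi

/-- Normality of a subobject in terms of generalized elements. -/
lemma normal_iff {G : E} [GrpObj G] (S : Subobject G) :
    (∀ (Y : E) (g : Y ⟶ G) (k : Y ⟶ (S : E)), ∃ k' : Y ⟶ (S : E),
      g * (k ≫ S.arrow) * g⁻¹ = k' ≫ S.arrow) ↔
    ∀ (Y : E) (g x : Y ⟶ G), S.Factors x → S.Factors (g * x * g⁻¹) := by
  constructor
  · intro h Y g x hx
    rw [factors_iff_exists] at hx ⊢
    obtain ⟨k, rfl⟩ := hx
    obtain ⟨k', hk'⟩ := h Y g k
    exact ⟨k', hk'.symm⟩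
  · intro h Y g k
    obtain ⟨k', hk'⟩ := (factors_iff_exists _ _).1
      (h Y g (k ≫ S.arrow) (Subobject.factors_comp_arrow k))
    exact ⟨k', hk'.symm⟩

variable [HasPullbacks E] [ExactCat E] [HasCoequalizers E]

variable {H G : E} [GrpObj H] [GrpObj G] (u : H ⟶ G) [Mono u] [IsMonHom u]
  {Q : E} {π : G ⟶ Q} (w : fst G H ≫ π = ((G ◁ u) ≫ μ[G]) ≫ π)
  (hc : IsColimit (Cofork.ofπ π w)) [GrpObj Q] [IsMonHom π]

include w hc

lemma isSubgrp_pullback (S : Subobject Q) (hS : IsSubgrp S) :
    Subobject.mk u ≤ (Subobject.pullback π).obj S ∧ IsSubgrp ((Subobject.pullback π).obj S) := by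
  refine ⟨?_, ?_, ?_, ?_⟩
  · rw [le_iff_factors]
    intro T f hf
    rw [mk_factors_iff'] at hf
    obtain ⟨g, rfl⟩ := hf
    rw [pullback_factors_iff]
    have h := (comp_π_eq_iff u w hc (1 : T ⟶ G) (g ≫ u)).2 ⟨g, (_root_.one_mul _).symm⟩
    rw [← h, MonObj.one_comp]
    exact hS.one' T
  · rw [pullback_factors_iff, IsMonHom.one_hom]
    exact hS.one
  · intro T a b ha hb
    rw [pullback_factors_iff] at ha hb ⊢
    rw [MonObj.mul_comp]
    exact hS.mul _ _ _ ha hb
  · intro T a ha
    rw [pullback_factors_iff] at ha ⊢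
    rw [GrpObj.inv_comp]
    exact hS.inv _ _ ha

lemma exists_isSubgrp_pullback_eq (S : Subobject G) (hS : IsSubgrp S)
    (hu : Subobject.mk u ≤ S) :
    ∃ S' : Subobject Q, IsSubgrp S' ∧ (Subobject.pullback π).obj S' = S := by
  have := epi_π hc
  have hk := isKernelPair u w hc
  obtain ⟨S', hS'⟩ := exists_pullback_eq hk S (by
    refine ext_factors fun T f => ?_
    rw [pullback_factors_iff, pullback_factors_iff, comp_act]
    have h₁ : S.Factors (f ≫ snd G H ≫ u) :=
      Subobject.factors_of_le _ hu ((mk_factors_iff' _ _).2 ⟨f ≫ snd G H, Category.assoc _ _ _⟩)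
    constructor
    · intro h₂
      exact hS.mul _ _ _ h₂ h₁
    · intro h₂
      have := hS.mul _ _ _ h₂ (hS.inv _ _ h₁)
      rwa [mul_inv_cancel_right] at this)
  have hfac : ∀ (T : E) (a : T ⟶ G), S.Factors a ↔ S'.Factors (a ≫ π) := by
    intro T a
    rw [← hS', pullback_factors_iff]
  refine ⟨S', ⟨?_, ?_, ?_⟩, hS'⟩
  · rw [← IsMonHom.one_hom π, ← hfac]
    exact hS.one
  · intro T x y hx hy
    obtain ⟨T₁, e₁, a, he₁, ha⟩ := exists_lift π x
    obtain ⟨T₂, e₂, b, he₂, hb⟩ := exists_lift π (e₁ ≫ y)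
    have ha' : S.Factors (e₂ ≫ a) := by
      rw [hfac, Category.assoc, ha, ← Category.assoc]
      exact Subobject.factors_of_factors_right _ hx
    have hb' : S.Factors b := by
      rw [hfac, hb, ← Category.assoc]
      exact Subobject.factors_of_factors_right _ hy
    apply factors_of_epi e₁
    apply factors_of_epi e₂
    have h := (hfac _ _).1 (hS.mul _ _ _ ha' hb')
    rw [MonObj.mul_comp, Category.assoc, ha, hb] at h
    rwa [MonObj.comp_mul, MonObj.comp_mul]
  · intro T x hx
    obtain ⟨T₁, e₁, a, he₁, ha⟩ := exists_lift π x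
    have ha' : S.Factors a := by
      rw [hfac, ha]
      exact Subobject.factors_of_factors_right _ hx
    apply factors_of_epi e₁
    have h := (hfac _ _).1 (hS.inv _ _ ha')
    rw [GrpObj.inv_comp, ha] at h
    rwa [GrpObj.comp_inv]

/-- The correspondence of subgroup objects. -/
theorem bijOn : Set.BijOn (Subobject.pullback π).obj
    {S' : Subobject Q | ∃ str : GrpObj (S' : E), @IsMonHom E _ _ _ _ str.toMonObj _ S'.arrow}
    {S : Subobject G | Subobject.mk u ≤ S ∧
      ∃ str : GrpObj (S : E), @IsMonHom E _ _ _ _ str.toMonObj _ S.arrow} := by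
  have := epi_π hc
  refine ⟨?_, (pullback_injective π).injOn, ?_⟩
  · intro S hS
    have h := isSubgrp_pullback u w hc S ((exists_grpObj_iff S).1 hS)
    exact ⟨h.1, (exists_grpObj_iff _).2 h.2⟩
  · rintro S ⟨hu, hS⟩
    obtain ⟨S', h₁, h₂⟩ := exists_isSubgrp_pullback_eq u w hc S ((exists_grpObj_iff S).1 hS) hu
    exact ⟨S', (exists_grpObj_iff _).2 h₁, h₂⟩

/-- Normal subgroups correspond to normal subgroups. -/
theorem normal_pullback_iff (S : Subobject Q) :
    (∀ (Y : E) (g : Y ⟶ Q) (k : Y ⟶ (S : E)), ∃ k' : Y ⟶ (S : E),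
      g * (k ≫ S.arrow) * g⁻¹ = k' ≫ S.arrow) ↔
    (∀ (Y : E) (g : Y ⟶ G) (k : Y ⟶ ((Subobject.pullback π).obj S : E)),
      ∃ k' : Y ⟶ ((Subobject.pullback π).obj S : E),
        g * (k ≫ ((Subobject.pullback π).obj S).arrow) * g⁻¹ =
          k' ≫ ((Subobject.pullback π).obj S).arrow) := by
  have := epi_π hc
  rw [normal_iff, normal_iff]
  constructor
  · intro h Y g x hx
    rw [pullback_factors_iff] at hx ⊢
    rw [MonObj.mul_comp, MonObj.mul_comp, GrpObj.inv_comp]
    exact h _ _ _ hx
  · intro h Y g x hx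
    obtain ⟨T₁, e₁, a, he₁, ha⟩ := exists_lift π g
    obtain ⟨T₂, e₂, b, he₂, hb⟩ := exists_lift π (e₁ ≫ x)
    apply factors_of_epi e₁
    apply factors_of_epi e₂
    have hb' : ((Subobject.pullback π).obj S).Factors b := by
      rw [pullback_factors_iff, hb, ← Category.assoc]
      exact Subobject.factors_of_factors_right _ hx
    have h' := h _ (e₂ ≫ a) b hb'
    rw [pullback_factors_iff, MonObj.mul_comp, MonObj.mul_comp, GrpObj.inv_comp, hb,
      Category.assoc, ha] at h'
    simpa only [MonObj.comp_mul, GrpObj.comp_inv] using h'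

end K186.SubGrp
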