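import Mathlib.CategoryTheory.Sites.PrecoverageToGrothendieck

/-!
# Topologies generated by two compatible precoverages

Let `P` be a precoverage stable under base change and composition, `P'` a precoverage on a class of
objects `C'`, compatible with `P` in the sense of SGA 3, Exp. IV, Prop. 6.2.1.  A sieve is covering
for the topology generated by `P` and `P'` if and only if it contains a composite family `P ∘ P'`
with middle terms in `C'`.
-/

set_option autoImplicit false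

open CategoryTheory

universe w v₁ u₁

namespace K186.Gen

variable {C : Type u₁} [Category.{v₁} C] (C' : C → Prop) (P P' : Precoverage C)

/-- `S'` contains a composite of a `P`-family with sources in `C'` and `P'`-families. -/
def Comp (X : C) (S' : Sieve X) : Prop :=
  ∃ R ∈ P X, ∀ ⦃Y : C⦄ ⦃f : Y ⟶ X⦄, R f → C' Y ∧ ∃ R' ∈ P' Y, ∀ ⦃Z : C⦄ ⦃g : Z ⟶ Y⦄, R' g →
    S' (g ≫ f)

variable {C' P P'}

lemma Comp.mono {X : C} {S₁ S₂ : Sieve X} (h : Comp C' P P' X S₁) (hle : S₁ ≤ S₂) :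
    Comp C' P P' X S₂ := by
  obtain ⟨R, hR, h⟩ := h
  refine ⟨R, hR, fun Y f hf => ⟨(h hf).1, ?_⟩⟩
  obtain ⟨R', hR', h'⟩ := (h hf).2
  exact ⟨R', hR', fun Z g hg => hle _ (h' hg)⟩

lemma comp_of_local [P.IsStableUnderComposition] {X : C} {S' : Sieve X} {R₀ : Presieve X}
    (hR₀ : R₀ ∈ P X) (h : ∀ ⦃Y : C⦄ ⦃f : Y ⟶ X⦄, R₀ f → Comp C' P P' Y (S'.pullback f)) :
    Comp C' P P' X S' := by
  obtain ⟨ι, Z, f, rfl⟩ := R₀.exists_eq_ofArrows
  have h' : ∀ i, Comp C' P P' (Z i) (S'.pullback (f i)) := fun i => h (.mk i)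
  choose R hR hR' using h'
  choose σ Y g hg using fun i => (R i).exists_eq_ofArrows
  refine ⟨_, P.comp_mem_coverings f hR₀ g (fun i => by rw [← hg i]; exact hR i), ?_⟩
  rintro _ _ ⟨⟨i, j⟩⟩
  have hij : R i (g i j) := by
    rw [hg i]
    exact .mk j
  obtain ⟨h₁, R', h₂, h₃⟩ := hR' i hij
  refine ⟨h₁, R', h₂, fun V q hq => ?_⟩
  have := h₃ hq
  simpa using this

variable (hP'C : ∀ ⦃X : C⦄ ⦃R : Presieve X⦄, R ∈ P' X → C' X ∧ ∀ ⦃Y : C⦄ ⦃f : Y ⟶ X⦄, R f → C' Y)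
    (hP'id : ∀ ⦃X : C⦄, C' X → Presieve.singleton (𝟙 X) ∈ P' X)
    (ha : ∀ ⦃X : C⦄ ⦃R : Presieve X⦄, R ∈ P' X → ∀ ⦃T : C⦄ (g : T ⟶ X), C' T →
      ∃ _ : R.HasPullbacks g, Presieve.pullbackArrows g R ∈ P' T)
    (hb : ∀ X : C, ∃ R ∈ P X, ∀ ⦃Y : C⦄ ⦃f : Y ⟶ X⦄, R f → C' Y)
    (hc : ∀ ⦃S : C⦄ ⦃R₁ : Presieve S⦄, R₁ ∈ P' S →
      ∀ (R₂ : ∀ ⦃Y : C⦄ ⦃f : Y ⟶ S⦄, R₁ f → Presieve Y),
        (∀ ⦃Y : C⦄ ⦃f : Y ⟶ S⦄ (hf : R₁ f), R₂ hf ∈ P Y ∧ ∀ ⦃Z : C⦄ ⦃g : Z ⟶ Y⦄, R₂ hf g → C' Z) →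
      ∀ (R₃ : ∀ ⦃Y : C⦄ ⦃f : Y ⟶ S⦄ (hf : R₁ f) ⦃Z : C⦄ ⦃g : Z ⟶ Y⦄, R₂ hf g → Presieve Z),
        (∀ ⦃Y : C⦄ ⦃f : Y ⟶ S⦄ (hf : R₁ f) ⦃Z : C⦄ ⦃g : Z ⟶ Y⦄ (hg : R₂ hf g), R₃ hf hg ∈ P' Z) →
      ∃ T ∈ P' S, ∀ ⦃W : C⦄ ⦃q : W ⟶ S⦄, T q →
        ∃ (Y Z V : C) (f : Y ⟶ S) (hf : R₁ f) (g : Z ⟶ Y) (hg : R₂ hf g) (h : V ⟶ Z) (_ : R₃ hf hg h)
          (r : W ⟶ V), r ≫ h ≫ g ≫ f = q)

include hP'id hb in
lemma comp_top (X : C) : Comp C' P P' X ⊤ := by
  obtain ⟨R, hR, h⟩ := hb X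
  exact ⟨R, hR, fun Y f hf => ⟨h hf, _, hP'id (h hf), fun Z g hg => trivial⟩⟩

include hP'id hb in
lemma comp_generate_left [P.IsStableUnderComposition] {X : C} {R : Presieve X} (hR : R ∈ P X) :
    Comp C' P P' X (Sieve.generate R) := by
  apply comp_of_local hR
  intro Y f hf
  rw [Sieve.pullback_eq_top_of_mem _ (Sieve.le_generate R _ _ hf)]
  exact comp_top hP'id hb Y

include ha hb in
lemma comp_generate_right {X : C} {R : Presieve X} (hR : R ∈ P' X) :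
    Comp C' P P' X (Sieve.generate R) := by
  obtain ⟨R₀, hR₀, h⟩ := hb X
  refine ⟨R₀, hR₀, fun Y f hf => ⟨h hf, ?_⟩⟩
  obtain ⟨hpb, hmem⟩ := ha hR f (h hf)
  refine ⟨_, hmem, ?_⟩
  rintro _ _ ⟨Z, g, hg⟩
  have := hpb.hasPullback hg
  exact ⟨Z, _, g, hg, Limits.pullback.condition⟩

include ha hb in
lemma comp_pullback [P.HasPullbacks] [P.IsStableUnderBaseChange] [P.IsStableUnderComposition]
    {X : C} {S' : Sieve X} (h : Comp C' P P' X S') {T : C} (f : T ⟶ X) :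
    Comp C' P P' T (S'.pullback f) := by
  obtain ⟨R, hR, h⟩ := h
  have := P.hasPullbacks_of_mem f hR
  apply comp_of_local (P.pullbackArrows_mem f hR)
  rintro _ _ ⟨Y, g, hg⟩
  obtain ⟨hY, R', hR', h'⟩ := h hg
  have := this.hasPullback hg
  obtain ⟨R₀, hR₀, h₀⟩ := hb (Limits.pullback g f)
  refine ⟨R₀, hR₀, fun W t ht => ⟨h₀ ht, ?_⟩⟩
  obtain ⟨hpb, hmem⟩ := ha hR' (t ≫ Limits.pullback.fst g f) (h₀ ht)
  refine ⟨_, hmem, ?_⟩
  rintro _ _ ⟨Z, g', hg'⟩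
  have := hpb.hasPullback hg'
  have e := Limits.pullback.condition (f := g') (g := t ≫ Limits.pullback.fst g f)
  rw [Sieve.pullback_apply, Sieve.pullback_apply]
  have e' : ((Limits.pullback.snd g' (t ≫ Limits.pullback.fst g f) ≫ t) ≫
      Limits.pullback.snd g f) ≫ f =
      Limits.pullback.fst g' (t ≫ Limits.pullback.fst g f) ≫ g' ≫ g := by
    rw [Category.assoc, Category.assoc, ← Limits.pullback.condition, ← Category.assoc t,
      ← Category.assoc, ← e, Category.assoc]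
  rw [e']
  exact S'.downward_closed (h' hg') _

include hc in
lemma exists_le_of_comp {S : C} {R₁ : Presieve S} (hR₁ : R₁ ∈ P' S) (T : Sieve S)
    (h : ∀ ⦃Y : C⦄ ⦃f : Y ⟶ S⦄, R₁ f → Comp C' P P' Y (T.pullback f)) :
    ∃ T₀ ∈ P' S, ∀ ⦃W : C⦄ ⦃q : W ⟶ S⦄, T₀ q → T q := by
  choose R₂ hR₂ h₂ using h
  choose h₃ R₃ hR₃ h₄ using h₂
  obtain ⟨T₀, hT₀, hT⟩ := hc hR₁ R₂ (fun Y f hf => ⟨hR₂ hf, fun Z g hg => h₃ hf hg⟩) R₃
    (fun Y f hf Z g hg => hR₃ hf hg)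
  refine ⟨T₀, hT₀, fun W q hq => ?_⟩
  obtain ⟨Y, Z, V, f, hf, g, hg, k, hk, r, rfl⟩ := hT hq
  have := h₄ hf hg hk
  apply T.downward_closed
  simpa using this

include hc in
lemma comp_transitive {X : C} {S₁ S₂ : Sieve X} (h : Comp C' P P' X S₁)
    (h' : ∀ ⦃Y : C⦄ ⦃f : Y ⟶ X⦄, S₁ f → Comp C' P P' Y (S₂.pullback f)) :
    Comp C' P P' X S₂ := by
  obtain ⟨R, hR, h⟩ := h
  refine ⟨R, hR, fun Y f hf => ⟨(h hf).1, ?_⟩⟩
  obtain ⟨hY, R', hR', hR₁⟩ := h hf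
  obtain ⟨T₀, hT₀, hT⟩ := exists_le_of_comp hc hR' (S₂.pullback f) (by
    intro Z g hg
    rw [← Sieve.pullback_comp]
    exact h' (hR₁ hg))
  exact ⟨T₀, hT₀, fun Z g hg => hT hg⟩

lemma mem_toGrothendieck_of_comp {X : C} {S' : Sieve X} (h : Comp C' P P' X S') :
    S' ∈ (P ⊔ P').toGrothendieck X := by
  obtain ⟨R, hR, h⟩ := h
  refine (P ⊔ P').toGrothendieck.transitive
    (Precoverage.generate_mem_toGrothendieck (Or.inl hR : R ∈ (P ⊔ P') X)) S' ?_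
  rintro Y _ ⟨Z, k, f, hf, rfl⟩
  rw [Sieve.pullback_comp]
  apply (P ⊔ P').toGrothendieck.pullback_stable
  obtain ⟨-, R', hR', h'⟩ := h hf
  refine (P ⊔ P').toGrothendieck.superset_covering ?_
    (Precoverage.generate_mem_toGrothendieck (Or.inr hR' : R' ∈ (P ⊔ P') Z))
  rw [Sieve.generate_le_iff]
  intro W g hg
  exact h' hg

include hP'id ha hb hc in
/-- Covering sieves of the topology generated by `P` and `P'`. -/
theorem mem_toGrothendieck_iff_comp [P.HasPullbacks] [P.IsStableUnderBaseChange]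
    [P.IsStableUnderComposition] {X : C} {S' : Sieve X} :
    S' ∈ (P ⊔ P').toGrothendieck X ↔ Comp C' P P' X S' := by
  refine ⟨fun h => ?_, mem_toGrothendieck_of_comp⟩
  rw [Precoverage.mem_toGrothendieck_iff] at h
  induction h with
  | of X S hS =>
    rcases hS with hS | hS
    · exact comp_generate_left hP'id hb hS
    · exact comp_generate_right ha hb hS
  | top X => exact comp_top hP'id hb X
  | pullback X S _ Y f ih => exact comp_pullback ha hb ih f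
  | transitive X S R _ _ ih₁ ih₂ => exact comp_transitive hc ih₁ ih₂

include hP'id ha hb hc in
/-- Sheaves for the topology generated by `P` and `P'`. -/
theorem isSheaf_toGrothendieck_iff [P.HasPullbacks] [P.IsStableUnderBaseChange]
    [P.IsStableUnderComposition] (F : Cᵒᵖ ⥤ Type w) :
    Presieve.IsSheaf (P ⊔ P').toGrothendieck F ↔
      (∀ ⦃X : C⦄ ⦃R : Presieve X⦄, R ∈ P X → Presieve.IsSheafFor F R) ∧
      (∀ ⦃X : C⦄ ⦃R : Presieve X⦄, R ∈ P' X → Presieve.IsSheafFor F R) := by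
  constructor
  · intro h
    exact ⟨fun X R hR => h.isSheafFor_of_mem_precoverage (Or.inl hR : R ∈ (P ⊔ P') X),
      fun X R hR => h.isSheafFor_of_mem_precoverage (Or.inr hR : R ∈ (P ⊔ P') X)⟩
  rintro ⟨hF, hF'⟩
  have hsep : Presieve.IsSeparated (P ⊔ P').toGrothendieck F := by
    intro X S hS x t₁ t₂ h₁ h₂
    rw [mem_toGrothendieck_iff_comp hP'id ha hb hc] at hS
    obtain ⟨R, hR, h⟩ := hS
    apply (hF hR).isSeparatedFor.ext
    intro Y f hf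
    obtain ⟨-, R', hR', h'⟩ := h hf
    apply (hF' hR').isSeparatedFor.ext
    intro Z g hg
    have e₁ := h₁ _ (h' hg)
    have e₂ := h₂ _ (h' hg)
    rw [op_comp, F.map_comp] at e₁ e₂
    exact e₁.trans e₂.symm
  intro X S hS x hx
  have hS' := hS
  rw [mem_toGrothendieck_iff_comp hP'id ha hb hc] at hS
  obtain ⟨R, hR, h⟩ := hS
  choose h₁ R' hR' h' using h
  -- the glued sections over the members of `R`
  have hglue : ∀ ⦃Y : C⦄ ⦃f : Y ⟶ X⦄ (hf : R f), ∃ y : F.obj (Opposite.op Y),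
      ∀ ⦃Z : C⦄ (g : Z ⟶ Y) (hg : R' hf g), F.map g.op y = x (g ≫ f) (h' hf hg) := by
    intro Y f hf
    obtain ⟨y, hy, -⟩ := hF' (hR' hf) (fun Z g hg => x (g ≫ f) (h' hf hg)) (by
      intro Y₁ Y₂ Z g₁ g₂ f₁ f₂ k₁ k₂ hg
      apply hx
      rw [reassoc_of% hg])
    exact ⟨y, hy⟩
  choose y hy using hglue
  -- the glued sections restrict to the given sections
  have hyx : ∀ ⦃Y : C⦄ ⦃f : Y ⟶ X⦄ (hf : R f) ⦃W : C⦄ (t : W ⟶ Y) (ht : S (t ≫ f)),
      F.map t.op (y hf) = x (t ≫ f) ht := by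
    intro Y f hf W t ht
    have hmem : (Sieve.generate (R' hf)).pullback t ∈ (P ⊔ P').toGrothendieck W :=
      (P ⊔ P').toGrothendieck.pullback_stable _
        (Precoverage.generate_mem_toGrothendieck (Or.inr (hR' hf) : R' hf ∈ (P ⊔ P') Y))
    apply (hsep _ hmem).ext
    rintro V v ⟨Z, s, g, hg, e⟩
    have e₁ : F.map v.op (F.map t.op (y hf)) = F.map s.op (F.map g.op (y hf)) := by
      rw [← Functor.map_comp_apply, ← Functor.map_comp_apply, ← op_comp, ← op_comp, e]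
    rw [e₁, hy hf g hg]
    apply hx
    rw [reassoc_of% e]
  obtain ⟨t, ht, -⟩ := hF hR (fun Y f hf => y hf) (by
    intro Y₁ Y₂ Z g₁ g₂ f₁ f₂ k₁ k₂ hg
    have hmem : S.pullback (g₁ ≫ f₁) ∈ (P ⊔ P').toGrothendieck Z :=
      (P ⊔ P').toGrothendieck.pullback_stable _ hS'
    apply (hsep _ hmem).ext
    intro V v hv
    have hv₁ : S ((v ≫ g₁) ≫ f₁) := by
      rw [Category.assoc]
      exact hv
    have hv₂ : S ((v ≫ g₂) ≫ f₂) := by
      rw [Category.assoc, ← hg]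
      exact hv
    have e₁ := hyx k₁ (v ≫ g₁) hv₁
    have e₂ := hyx k₂ (v ≫ g₂) hv₂
    rw [op_comp, Functor.map_comp_apply] at e₁ e₂
    rw [e₁, e₂]
    congr 1
    simp [hg])
  refine ⟨t, ?_, fun t' ht' => ?_⟩
  · intro W k hk
    have hmem : (Sieve.generate R).pullback k ∈ (P ⊔ P').toGrothendieck W :=
      (P ⊔ P').toGrothendieck.pullback_stable _
        (Precoverage.generate_mem_toGrothendieck (Or.inl hR : R ∈ (P ⊔ P') X))
    apply (hsep _ hmem).ext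
    rintro V v ⟨Z, s, f, hf, e⟩
    have e₁ : F.map v.op (F.map k.op t) = F.map s.op (F.map f.op t) := by
      rw [← Functor.map_comp_apply, ← Functor.map_comp_apply, ← op_comp, ← op_comp, e]
    have hs : S (s ≫ f) := by
      rw [e]
      exact S.downward_closed hk _
    rw [e₁, ht f hf, hyx hf s hs]
    have e₂ := hx (𝟙 V) v hs hk (by rw [Category.id_comp, e])
    simpa using e₂
  · apply (hsep S hS').ext
    intro W k hk
    rw [ht' k hk]
    symm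
    have hmem : (Sieve.generate R).pullback k ∈ (P ⊔ P').toGrothendieck W :=
      (P ⊔ P').toGrothendieck.pullback_stable _
        (Precoverage.generate_mem_toGrothendieck (Or.inl hR : R ∈ (P ⊔ P') X))
    apply (hsep _ hmem).ext
    rintro V v ⟨Z, s, f, hf, e⟩
    have e₁ : F.map v.op (F.map k.op t) = F.map s.op (F.map f.op t) := by
      rw [← Functor.map_comp_apply, ← Functor.map_comp_apply, ← op_comp, ← op_comp, e]
    have hs : S (s ≫ f) := by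
      rw [e]
      exact S.downward_closed hk _
    rw [e₁, ht f hf, hyx hf s hs]
    have e₂ := hx (𝟙 V) v hs hk (by rw [Category.id_comp, e])
    simpa using e₂

end K186.Gen
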