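import Groth.Agent.ShfCat.K186.GrpQuot
import Groth.Agent.ShfCat.K186.PbCrit

/-!
# Isomorphism theorems for quotients in exact categories
-/

set_option autoImplicit false
set_option linter.unusedSectionVars false

open CategoryTheory CategoryTheory.Limits MonoidalCategory CartesianMonoidalCategory MonObj

namespace K186.Iso

open K186.Exact K186.Coset K186.GrpQuot

variable {E : Type*} [Category* E] [CartesianMonoidalCategory E] [HasPullbacks E] [ExactCat E]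

/-- The kernel pair of `L ⟶ G ⟶ G/H` is `L × (H ∩ L) ⇉ L`. -/
theorem isKernelPair_sub {H L G : E} [GrpObj H] [GrpObj L] [GrpObj G] (u : H ⟶ G) (l : L ⟶ G)
    [Mono u] [Mono l] [IsMonHom u] [IsMonHom l] {Q : E} {π : G ⟶ Q}
    (w : fst G H ≫ π = ((G ◁ u) ≫ μ[G]) ≫ π) (hc : IsColimit (Cofork.ofπ π w)) :
    IsKernelPair (l ≫ π) (fst L (pullback u l)) ((L ◁ pullback.snd u l) ≫ μ[L]) := by
  apply PbCrit.isPullback_of_exists
  · rw [← Category.assoc, ← Category.assoc, comp_π_eq_iff u w hc]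
    refine ⟨snd _ _ ≫ pullback.fst u l, ?_⟩
    have h := comp_act (pullback.snd u l) (𝟙 (L ⊗ pullback u l))
    simp only [Category.id_comp] at h
    rw [h, MonObj.mul_comp, Category.assoc, Category.assoc, pullback.condition]
  · intro T a b h₁ h₂
    rw [comp_act, comp_act, h₁, mul_right_inj, ← Category.assoc, ← Category.assoc,
      cancel_mono] at h₂
    exact CartesianMonoidalCategory.hom_ext _ _ h₁ h₂
  · intro T a b hab
    rw [← Category.assoc, ← Category.assoc, comp_π_eq_iff u w hc] at hab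
    obtain ⟨h, hh⟩ := hab
    have e : h ≫ u = (a⁻¹ * b) ≫ l := by
      rw [MonObj.mul_comp, GrpObj.inv_comp, hh]
      group
    refine ⟨lift a (pullback.lift h (a⁻¹ * b) e), by simp, ?_⟩
    rw [lift_act, pullback.lift_snd]
    group

/-- The third isomorphism theorem `(G/H)/(K/H) = G/K`, with the action of `K/H` on `G/H` free. -/
theorem third_iso {H K G : E} [GrpObj H] [GrpObj K] [GrpObj G] (h : H ⟶ K) (k : K ⟶ G)
    [Mono h] [Mono k] [IsMonHom h] [IsMonHom k]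
    {Q₁ Q₂ Q₃ : E} {π₁ : G ⟶ Q₁} (w₁ : fst G H ≫ π₁ = ((G ◁ (h ≫ k)) ≫ μ[G]) ≫ π₁)
    (hc₁ : IsColimit (Cofork.ofπ π₁ w₁))
    {π₂ : K ⟶ Q₂} (w₂ : fst K H ≫ π₂ = ((K ◁ h) ≫ μ[K]) ≫ π₂)
    (hc₂ : IsColimit (Cofork.ofπ π₂ w₂))
    {π₃ : G ⟶ Q₃} (w₃ : fst G K ≫ π₃ = ((G ◁ k) ≫ μ[G]) ≫ π₃)
    (hc₃ : IsColimit (Cofork.ofπ π₃ w₃))
    (act : Q₁ ⊗ Q₂ ⟶ Q₁) (hact : (π₁ ⊗ₘ π₂) ≫ act = (G ◁ k) ≫ μ[G] ≫ π₁)
    (qbar : Q₁ ⟶ Q₃) (hq : π₁ ≫ qbar = π₃) :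
    Mono (lift act (fst Q₁ Q₂)) ∧
      ∃ wq : fst Q₁ Q₂ ≫ qbar = act ≫ qbar, Nonempty (IsColimit (Cofork.ofπ qbar wq)) := by
  have := epi_π hc₁
  have := epi_π hc₂
  have := epi_π hc₃
  have hact' : ∀ (T : E) (a : T ⟶ G) (b : T ⟶ K),
      lift (a ≫ π₁) (b ≫ π₂) ≫ act = (a * (b ≫ k)) ≫ π₁ := by
    intro T a b
    have := lift a b ≫= hact
    rw [lift_map_assoc] at this
    rw [this, ← lift_act, Category.assoc, Category.assoc]
  refine ⟨⟨fun {T} x y hxy => ?_⟩, ?_, ⟨?_⟩⟩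
  · have h₁ : x ≫ act = y ≫ act := by simpa using hxy =≫ fst _ _
    have h₂ : x ≫ fst Q₁ Q₂ = y ≫ fst Q₁ Q₂ := by simpa using hxy =≫ snd _ _
    obtain ⟨T₁, e₁, g, he₁, hg⟩ := exists_lift π₁ (x ≫ fst Q₁ Q₂)
    obtain ⟨T₂, e₂, a, he₂, ha⟩ := exists_lift π₂ (e₁ ≫ x ≫ snd Q₁ Q₂)
    obtain ⟨T₃, e₃, b, he₃, hb⟩ := exists_lift π₂ (e₂ ≫ e₁ ≫ y ≫ snd Q₁ Q₂)
    have ex : e₃ ≫ e₂ ≫ e₁ ≫ x = lift ((e₃ ≫ e₂ ≫ g) ≫ π₁) ((e₃ ≫ a) ≫ π₂) := by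
      apply CartesianMonoidalCategory.hom_ext
      · simp [hg]
      · simp [ha]
    have ey : e₃ ≫ e₂ ≫ e₁ ≫ y = lift ((e₃ ≫ e₂ ≫ g) ≫ π₁) (b ≫ π₂) := by
      apply CartesianMonoidalCategory.hom_ext
      · simp [hg, h₂]
      · simp [hb]
    have h₃ : (e₃ ≫ e₂ ≫ e₁ ≫ x) ≫ act = (e₃ ≫ e₂ ≫ e₁ ≫ y) ≫ act := by
      simp only [Category.assoc, h₁]
    rw [ex, ey, hact', hact', comp_π_eq_iff (h ≫ k) w₁ hc₁] at h₃
    obtain ⟨s, hs⟩ := h₃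
    rw [_root_.mul_assoc, mul_right_inj, ← Category.assoc s h k, ← MonObj.mul_comp,
      cancel_mono] at hs
    have h₄ : (e₃ ≫ a) ≫ π₂ = b ≫ π₂ := (comp_π_eq_iff h w₂ hc₂ _ _).2 ⟨s, hs⟩
    rw [h₄, ← ey] at ex
    rwa [cancel_epi, cancel_epi, cancel_epi] at ex
  · rw [← cancel_epi (π₁ ⊗ₘ π₂), reassoc_of% hact, hq, tensorHom_fst_assoc, hq]
    simpa using w₃
  · refine Cofork.IsColimit.mk _ (fun s => Cofork.IsColimit.desc hc₃ (π₁ ≫ s.π) ?_) ?_ ?_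
    · have hs := (π₁ ⊗ₘ π₂) ≫= s.condition
      rw [reassoc_of% hact, tensorHom_fst_assoc] at hs
      rw [hs, Category.assoc]
    · intro s
      rw [← cancel_epi π₁, Cofork.π_ofπ, reassoc_of% hq]
      exact Cofork.IsColimit.π_desc' hc₃ _ _
    · intro s m hm
      rw [← cancel_epi π₃]
      refine Eq.trans ?_ (Cofork.IsColimit.π_desc' hc₃ _ _).symm
      rw [← hq, Category.assoc]
      congr 1

end K186.Iso
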