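import Groth.Agent.ShfCat.K186.Exact

/-!
# Coset spaces in exact categories

For a monomorphism of group objects `u : H ⟶ G` the pair (projection, multiplication)
`G ⊗ H ⇉ G` is an equivalence relation; generalized elements `a, b` of `G` have the same image in
the quotient if and only if `b = a * u h`.
-/

set_option autoImplicit false
set_option linter.unusedSectionVars false

open CategoryTheory CategoryTheory.Limits MonoidalCategory CartesianMonoidalCategory MonObj

namespace K186.Coset

open K186.Exact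

variable {E : Type*} [Category* E] [CartesianMonoidalCategory E]

section Rel

variable {H G : E} [GrpObj G] (u : H ⟶ G)

lemma lift_act {T : E} (a : T ⟶ G) (h : T ⟶ H) :
    lift a h ≫ (G ◁ u) ≫ μ = a * (h ≫ u) := by
  rw [Hom.mul_def]
  simp

lemma comp_act {T : E} (x : T ⟶ G ⊗ H) :
    x ≫ (G ◁ u) ≫ μ = (x ≫ fst G H) * (x ≫ snd G H ≫ u) := by
  rw [← Category.assoc x (snd G H) u, ← lift_act]
  simp

variable [GrpObj H] [Mono u] [IsMonHom u]

lemma jointly_mono {T : E} {x y : T ⟶ G ⊗ H} (h₁ : x ≫ fst G H = y ≫ fst G H)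
    (h₂ : x ≫ (G ◁ u) ≫ μ = y ≫ (G ◁ u) ≫ μ) : x = y := by
  rw [comp_act, comp_act, h₁, mul_right_inj, ← Category.assoc, ← Category.assoc,
    cancel_mono] at h₂
  exact CartesianMonoidalCategory.hom_ext _ _ h₁ h₂

/-- The pair `G ⊗ H ⇉ G` of the projection and the multiplication is an equivalence relation. -/
noncomputable def cosetRel [HasPullbacks E] :
    EquivalenceRelation (fst G H) ((G ◁ u) ≫ μ[G]) where
  right_cancellation _ _ _ h₁ h₂ := jointly_mono u h₁ h₂
  r := lift (𝟙 G) 1
  reflexivity₁ := by simp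
  reflexivity₂ := by rw [lift_act, MonObj.one_comp, _root_.mul_one]
  s := lift ((G ◁ u) ≫ μ[G]) (snd G H)⁻¹
  symmetry₁ := by simp
  symmetry₂ := by
    rw [lift_act, GrpObj.inv_comp]
    have := comp_act u (𝟙 (G ⊗ H))
    simp only [Category.id_comp] at this
    rw [this, mul_inv_cancel_right]
  c := pullback.cone _ _
  isLimit := pullback.isLimit _ _
  t := lift (pullback.fst _ _ ≫ fst G H) ((pullback.fst _ _ ≫ snd G H) * (pullback.snd _ _ ≫ snd G H))
  transitivity₁ := by simp
  transitivity₂ := by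
    have hc := pullback.condition (f := (G ◁ u) ≫ μ[G]) (g := fst G H)
    change _ = pullback.snd _ _ ≫ (G ◁ u) ≫ μ[G]
    rw [comp_act] at hc
    rw [lift_act, comp_act, MonObj.mul_comp, ← hc, _root_.mul_assoc]
    simp only [Category.assoc]

variable [ExactCat E] [HasPullbacks E] {Q : E} {π : G ⟶ Q} (w : fst G H ≫ π = ((G ◁ u) ≫ μ[G]) ≫ π)
  (hc : IsColimit (Cofork.ofπ π w))

include hc

lemma isKernelPair : IsKernelPair π (fst G H) ((G ◁ u) ≫ μ[G]) :=
  ExactCat.kernelPair w (cosetRel u) hc

lemma comp_π_eq_iff {T : E} (a b : T ⟶ G) :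
    a ≫ π = b ≫ π ↔ ∃ h : T ⟶ H, b = a * (h ≫ u) := by
  constructor
  · intro hab
    refine ⟨(isKernelPair u w hc).lift a b hab ≫ snd G H, ?_⟩
    have h₁ := (isKernelPair u w hc).lift_fst a b hab
    have h₂ := (isKernelPair u w hc).lift_snd a b hab
    rw [comp_act, h₁] at h₂
    rw [Category.assoc, h₂]
  · rintro ⟨h, rfl⟩
    have := lift a h ≫= w
    rw [← Category.assoc, lift_fst, ← Category.assoc, lift_act] at this
    exact this

end Rel

end K186.Coset
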